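import Mathlib
import Cfsg.Agent.SPOR.F24.Core
import Cfsg.Agent.SPOR.LXStruct
import Cfsg.Agent.SPOR.LXV

/-!
A large extraspecial group `Q` of order `2^13` with coordinates `Q / Z(Q) = F_4^6`, and the
canonical section `F_4^6 → Q` attached to an element `x` of order 3 acting as `ω`.
-/

set_option autoImplicit false
set_option maxHeartbeats 400000
set_option linter.unusedSectionVars false

namespace CL.F24

open Finset CL.K CL.CG CL.F2M CL.LX CL.MSS Cfsg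

attribute [local irreducible] gcode vcode

/-! ### Forms on the model -/

/-- the quadratic form: the number of non-zero coordinates over `F_4` -/
def qf (v : W) : ZMod 2 := ∑ i : Fin 6, (v (lo i) + v (lo i) * v (hi i) + v (hi i))

/-- its polar form -/
def bf (u v : W) : ZMod 2 := ∑ i : Fin 6, (u (lo i) * v (hi i) + u (hi i) * v (lo i))

theorem qf_add (u v : W) : qf (u + v) = qf u + qf v + bf u v := by
  simp only [qf, bf, ← sum_add_distrib, Pi.add_apply]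
  exact sum_congr rfl fun i _ => by ring

theorem bf_add_left (u v w : W) : bf (u + v) w = bf u w + bf v w := by
  simp only [bf, ← sum_add_distrib, Pi.add_apply]
  exact sum_congr rfl fun i _ => by ring

theorem bf_comm (u v : W) : bf u v = bf v u := sum_congr rfl fun i _ => by ring

theorem bf_add_right (u v w : W) : bf u (v + w) = bf u v + bf u w := by
  rw [bf_comm, bf_add_left, bf_comm v, bf_comm w]

theorem z2_add_self (c : ZMod 2) : c + c = 0 := by revert c; decide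

theorem z2_cases (c : ZMod 2) : c = 0 ∨ c = 1 := by revert c; decide

theorem bf_self (u : W) : bf u u = 0 :=
  sum_eq_zero fun i _ => by rw [mul_comm, z2_add_self]

theorem qf_zero : qf 0 = 0 := by simp [qf]

theorem bf_zero_left (u : W) : bf 0 u = 0 := by simp [bf]

theorem bf_zero_right (u : W) : bf u 0 = 0 := by simp [bf]

theorem W_add_self (v : W) : v + v = 0 := two_zero v

theorem bf_eq (u v : W) : bf u v = qf (u + v) + qf u + qf v := by
  rw [qf_add]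
  generalize qf u = a, qf v = b, bf u v = c
  revert a b c; decide

/-- the quadratic form on codes -/
noncomputable def qC (c : ℕ) : ℕ :=
  force (Nat.land (Nat.lor c (Nat.shiftRight c 1)) 0x555) fun t =>
  force (Nat.xor t (Nat.shiftRight t 8)) fun t =>
  force (Nat.xor t (Nat.shiftRight t 4)) fun t => Nat.land (Nat.xor t (Nat.shiftRight t 2)) 1

/-- the polar form on codes -/
noncomputable def bC (a b : ℕ) : ℕ := Nat.xor (Nat.xor (qC (Nat.xor a b)) (qC a)) (qC b)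

theorem forall_W {p : W → Prop} (h : ∀ c < 4096, p (vdec 12 c)) (v : W) : p v :=
  vdec_vcode v ▸ h _ (vcode_lt v)

theorem qC_code (v : W) : qC (vcode v) = (qf v).val := by
  have : allN (fun c => Nat.beq (qC c) (qf (vdec 12 c)).val) 4096 = true := by decide +kernel
  have h := eq_of_beq (allN_spec this _ (vcode_lt v))
  rwa [vdec_vcode] at h

theorem bC_code (u v : W) : bC (vcode u) (vcode v) = (bf u v).val := by
  have e : Nat.xor (vcode u) (vcode v) = vcode (u + v) := (vcode_add u v).symm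
  rw [bC, e, qC_code, qC_code, qC_code, bf_eq]
  generalize qf u = a, qf v = b, qf (u + v) = c
  revert a b c; decide

/-- multiplication by `ω` -/
noncomputable def Z0 : GL12 := elt gcode cZ

theorem code_Z0 : gcode Z0 = cZ :=
  (ok12.mem_of_unitB (a := cZ) (b := cZZ) (by decide +kernel)).code_elt

theorem code_Z0_inv : gcode Z0⁻¹ = cZZ := code_inv code_Z0 (by decide +kernel)

theorem Z0_sq : Z0 * Z0 = Z0⁻¹ :=
  C12.inj (by rw [← C12.map_mul, code_Z0, code_Z0_inv]; decide +kernel)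

theorem Z0_cube : Z0 ^ 3 = 1 := by rw [pow_succ, pow_two, Z0_sq, inv_mul_cancel]

theorem Z0_sum (v : W) : v + Z0 • v + Z0⁻¹ • v = 0 := by
  have : allN (fun c => Nat.beq (Nat.xor (Nat.xor c (ac cZ c)) (ac cZZ c)) 0) 4096 = true := by
    decide +kernel
  have h := eq_of_beq (allN_spec this _ (vcode_lt v))
  rw [← code_Z0, ← code_Z0_inv, ac_code, ac_code] at h
  exact vcode_injective (by rw [vcode_add, vcode_add, vcode_zero]; exact h)

theorem add_Z0 (v : W) : v + Z0 • v = Z0⁻¹ • v := by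
  rw [eq_neg_of_add_eq_zero_left (Z0_sum v), neg_eq_of_add_eq_zero_left (W_add_self _)]

theorem eq_zero_of_Z0 {v : W} (h : Z0 • v = v) : v = 0 := by
  have := add_Z0 v
  rw [h, W_add_self] at this
  exact (smul_eq_zero_iff_eq _).1 this.symm

theorem qf_Z0 (v : W) : qf (Z0 • v) = qf v := by
  have : allN (fun c => Nat.beq (qC (ac cZ c)) (qC c)) 4096 = true := by decide +kernel
  have h := eq_of_beq (allN_spec this _ (vcode_lt v))
  rw [← code_Z0, ac_code, qC_code, qC_code] at h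
  exact ZMod.val_injective 2 h

theorem qf_Z0_inv (v : W) : qf (Z0⁻¹ • v) = qf v := by
  rw [← qf_Z0, smul_inv_smul]

theorem bf_smul {g : GL12} (hg : ∀ v, qf (g • v) = qf v) (u v : W) :
    bf (g • u) (g • v) = bf u v := by
  rw [bf_eq, bf_eq, ← smul_add, hg, hg, hg]

theorem bf_Z0_self (v : W) : bf v (Z0 • v) = qf v := by
  rw [bf_eq, add_Z0, qf_Z0_inv, qf_Z0, z2_add_self, zero_add]

theorem eq_zero_of_bf {v : W} (h : ∀ u, bf u v = 0) : v = 0 := by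
  have : allN (fun c => Nat.beq c 0 || anyLt (fun j => Nat.beq (bC (2 ^ j) c) 1) 12) 4096 = true := by
    decide +kernel
  have h1 := allN_spec this _ (vcode_lt v)
  rw [Bool.or_eq_true, anyLt_iff] at h1
  rcases h1 with h1 | ⟨j, hj, h1⟩
  · exact vcode_injective ((eq_of_beq h1).trans vcode_zero.symm)
  · have h2 := eq_of_beq h1
    rw [← vcode_vdec (Nat.pow_lt_pow_right one_lt_two hj), bC_code, h] at h2
    exact absurd h2 (by decide)

theorem gl_ext {n : ℕ} {g h : GL (Fin n) (ZMod 2)} (e : ∀ v : Fin n → ZMod 2, g • v = h • v) :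
    g = h :=
  Units.ext (Matrix.toLin'.injective (LinearMap.ext fun v => e v))

/-! ### Frames -/

variable {G : Type*} [Group G]

/-- `z ^ c` for `c` in `ZMod 2` -/
def zp (z : G) (c : ZMod 2) : G := z ^ c.val

theorem zp_zero (z : G) : zp z 0 = 1 := pow_zero z

theorem zp_one (z : G) : zp z 1 = z := pow_one z

theorem zp_add {z : G} (hz : z * z = 1) (a b : ZMod 2) : zp z (a + b) = zp z a * zp z b := by
  rcases z2_cases a with rfl | rfl <;> rcases z2_cases b with rfl | rfl <;>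
    simp [zp_zero, zp_one, z2_add_self, hz]

theorem zp_inj {z : G} (hz : z ≠ 1) {a b : ZMod 2} (h : zp z a = zp z b) : a = b := by
  rcases z2_cases a with rfl | rfl <;> rcases z2_cases b with rfl | rfl
  · rfl
  · exact absurd (by simpa [zp_zero, zp_one] using h.symm) hz
  · exact absurd (by simpa [zp_zero, zp_one] using h) hz
  · rfl

theorem zp_comm' {z c : G} (h : c * z = z * c) (a : ZMod 2) : c * zp z a = zp z a * c :=
  ((show Commute c z from h).pow_right _).eq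

theorem zp_cases (z : G) (a : ZMod 2) : zp z a = 1 ∨ zp z a = z := by
  rcases z2_cases a with rfl | rfl
  exacts [Or.inl (zp_zero z), Or.inr (zp_one z)]

theorem exists_zp {z y : G} (h : y = 1 ∨ y = z) : ∃ a, y = zp z a := by
  rcases h with rfl | rfl
  exacts [⟨0, (zp_zero _).symm⟩, ⟨1, (zp_one _).symm⟩]

/-- coordinates on a large extraspecial group of order `2^13` -/
structure Frame (z : G) (Q : Subgroup G) (κ : G → W)
    (ρ : Subgroup.centralizer ({z} : Set G) →* GL12) : Prop where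
  lx : LX Q z
  card : Nat.card Q = 2 ^ 13
  κ_mul : ∀ x ∈ Q, ∀ y ∈ Q, κ (x * y) = κ x + κ y
  κ_surj : ∀ v, ∃ x ∈ Q, κ x = v
  κ_zero : ∀ x ∈ Q, κ x = 0 ↔ x = 1 ∨ x = z
  κ_conj : ∀ (h : Subgroup.centralizer ({z} : Set G)), ∀ x ∈ Q, κ (h * x * (h : G)⁻¹) = ρ h • κ x
  sq : ∀ x ∈ Q, x * x = zp z (qf (κ x))

/-- `c` centralises `z` and acts as `γ` -/
def Ov {z : G} (ρ : Subgroup.centralizer ({z} : Set G) →* GL12) (c : G) (γ : GL12) : Prop :=
  ∃ hc : c ∈ Subgroup.centralizer ({z} : Set G), ρ ⟨c, hc⟩ = γ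

section Ov
variable {z : G} {ρ : Subgroup.centralizer ({z} : Set G) →* GL12}

theorem Ov.mem {c : G} {γ : GL12} (h : Ov ρ c γ) : c ∈ Subgroup.centralizer ({z} : Set G) := h.1

theorem Ov.comm {c : G} {γ : GL12} (h : Ov ρ c γ) : c * z = z * c :=
  Subgroup.mem_centralizer_singleton_iff.1 h.1

theorem Ov.range {c : G} {γ : GL12} (h : Ov ρ c γ) : γ ∈ ρ.range := ⟨_, h.2⟩

theorem ov_coe (h : Subgroup.centralizer ({z} : Set G)) : Ov ρ h (ρ h) := ⟨h.2, rfl⟩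

theorem exists_ov {c : G} (h : c * z = z * c) : ∃ γ, Ov ρ c γ :=
  ⟨_, Subgroup.mem_centralizer_singleton_iff.2 h, rfl⟩

theorem exists_ov_of_range {γ : GL12} (h : γ ∈ ρ.range) : ∃ c, Ov ρ c γ := by
  obtain ⟨c, rfl⟩ := h
  exact ⟨c, ov_coe c⟩

theorem Ov.unique {c : G} {γ δ : GL12} (h : Ov ρ c γ) (h' : Ov ρ c δ) : γ = δ :=
  h.2.symm.trans h'.2

theorem ov_one : Ov ρ 1 1 := ⟨one_mem _, map_one ρ⟩

theorem Ov.mul {c d : G} {γ δ : GL12} (h : Ov ρ c γ) (h' : Ov ρ d δ) : Ov ρ (c * d) (γ * δ) :=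
  ⟨mul_mem h.1 h'.1, by rw [← h.2, ← h'.2, ← map_mul]; rfl⟩

theorem Ov.inv {c : G} {γ : GL12} (h : Ov ρ c γ) : Ov ρ c⁻¹ γ⁻¹ :=
  ⟨inv_mem h.1, by rw [← h.2, ← map_inv]; rfl⟩

theorem Ov.pow {c : G} {γ : GL12} (h : Ov ρ c γ) (n : ℕ) : Ov ρ (c ^ n) (γ ^ n) :=
  ⟨pow_mem h.1 n, by rw [← h.2, ← map_pow]; rfl⟩

theorem Ov.conj {c d : G} {γ δ : GL12} (h : Ov ρ c γ) (h' : Ov ρ d δ) :
    Ov ρ (c * d * c⁻¹) (γ * δ * γ⁻¹) := (h.mul h').mul h.inv

end Ov

/-- norm with respect to `x` -/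
def nm (x q : G) : G := q * (x * q * x⁻¹) * (x⁻¹ * q * x)

/-- the canonical lift of `v` -/
noncomputable def lf (Q : Subgroup G) (κ : G → W) (x : G) (v : W) : G :=
  haveI : Nonempty G := ⟨1⟩
  Classical.epsilon fun q => q ∈ Q ∧ κ q = v ∧ nm x q = 1

namespace Frame

variable {z : G} {Q : Subgroup G} {κ : G → W} {ρ : Subgroup.centralizer ({z} : Set G) →* GL12}
  (F : Frame z Q κ ρ)
include F

theorem zz : z * z = 1 := F.lx.z_sq

theorem κ_one : κ 1 = 0 := (F.κ_zero 1 (one_mem _)).2 (Or.inl rfl)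

theorem κ_z : κ z = 0 := (F.κ_zero z F.lx.z_mem).2 (Or.inr rfl)

theorem zp_mem (a : ZMod 2) : zp z a ∈ Q := pow_mem F.lx.z_mem _

theorem κ_zp (a : ZMod 2) : κ (zp z a) = 0 := (F.κ_zero _ (F.zp_mem a)).2 (zp_cases z a)

theorem κ_mul_zp {x : G} (hx : x ∈ Q) (a : ZMod 2) : κ (x * zp z a) = κ x := by
  rw [F.κ_mul _ hx _ (F.zp_mem a), F.κ_zp, add_zero]

theorem κ_mul_z {x : G} (hx : x ∈ Q) : κ (x * z) = κ x := by
  rw [F.κ_mul _ hx _ F.lx.z_mem, F.κ_z, add_zero]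

theorem κ_inv {x : G} (hx : x ∈ Q) : κ x⁻¹ = κ x := by
  have := F.κ_mul _ (inv_mem hx) _ hx
  rw [inv_mul_cancel, F.κ_one] at this
  rw [eq_neg_of_add_eq_zero_left this.symm, neg_eq_of_add_eq_zero_left (W_add_self _)]

theorem κ_eq_iff {x y : G} (hx : x ∈ Q) (hy : y ∈ Q) : κ x = κ y ↔ x = y ∨ x = y * z := by
  have := F.κ_zero _ (mul_mem (inv_mem hy) hx)
  rw [F.κ_mul _ (inv_mem hy) _ hx, F.κ_inv hy, inv_mul_eq_one, inv_mul_eq_iff_eq_mul, eq_comm (a := y)] at this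
  rw [← this]
  exact ⟨fun h => by rw [h, W_add_self], fun h => by
    rw [eq_neg_of_add_eq_zero_right h, neg_eq_of_add_eq_zero_left (W_add_self _)]⟩

theorem exists_zp_of_κ {x y : G} (hx : x ∈ Q) (hy : y ∈ Q) (h : κ x = κ y) :
    ∃ a, x = y * zp z a := by
  rcases (F.κ_eq_iff hx hy).1 h with h | h
  exacts [⟨0, by rw [h, zp_zero, mul_one]⟩, ⟨1, by rw [h, zp_one]⟩]

theorem zp_comm {c : G} {γ : GL12} (h : Ov ρ c γ) (a : ZMod 2) : c * zp z a = zp z a * c :=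
  zp_comm' h.comm a

theorem zp_commQ {x : G} (hx : x ∈ Q) (a : ZMod 2) : x * zp z a = zp z a * x :=
  zp_comm' (F.lx.z_comm x hx) a

theorem zp_sq (a : ZMod 2) : zp z a * zp z a = 1 := by
  rw [← zp_add F.zz, z2_add_self, zp_zero]

theorem zp_inv (a : ZMod 2) : (zp z a)⁻¹ = zp z a := inv_eq_of_mul_eq_one_left (F.zp_sq a)

theorem comm {x y : G} (hx : x ∈ Q) (hy : y ∈ Q) : x * y = y * x * zp z (bf (κ x) (κ y)) := by
  have h1 := F.sq _ (mul_mem hx hy)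
  rw [F.κ_mul _ hx _ hy, qf_add, zp_add F.zz, zp_add F.zz, ← F.sq _ hx, ← F.sq _ hy] at h1
  by_cases hc : x * y = y * x
  · have : x * y * (x * y) = x * x * (y * y) := by
      rw [mul_assoc, ← mul_assoc y, ← hc]; group
    rw [this, left_eq_mul] at h1
    rw [h1, mul_one, hc]
  · rw [F.lx.mul_sq_of_not_comm hx hy hc, mul_right_inj] at h1
    rw [← h1]
    exact F.lx.comm_of_not hx hy hc

theorem comm_iff {x y : G} (hx : x ∈ Q) (hy : y ∈ Q) : x * y = y * x ↔ bf (κ x) (κ y) = 0 := by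
  rw [F.comm hx hy, mul_eq_left]
  exact ⟨fun h => zp_inj F.lx.z_ne (h.trans (zp_zero z).symm), fun h => by rw [h, zp_zero]⟩

theorem sq_iff {x : G} (hx : x ∈ Q) : x * x = 1 ↔ qf (κ x) = 0 := by
  rw [F.sq x hx]
  exact ⟨fun h => zp_inj F.lx.z_ne (h.trans (zp_zero z).symm), fun h => by rw [h, zp_zero]⟩

theorem conj_mem {c : G} {γ : GL12} (h : Ov ρ c γ) {x : G} (hx : x ∈ Q) : c * x * c⁻¹ ∈ Q :=
  F.lx.norm c h.comm x hx

theorem κ_ov {c : G} {γ : GL12} (h : Ov ρ c γ) {x : G} (hx : x ∈ Q) :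
    κ (c * x * c⁻¹) = γ • κ x := by
  obtain ⟨hc, rfl⟩ := h
  exact F.κ_conj ⟨c, hc⟩ x hx

theorem ov_Q {q : G} (hq : q ∈ Q) : Ov ρ q 1 := by
  obtain ⟨γ, h⟩ := exists_ov (ρ := ρ) (F.lx.z_comm q hq)
  have : γ = 1 := gl_ext fun v => by
    obtain ⟨x, hx, rfl⟩ := F.κ_surj v
    rw [← F.κ_ov h hx, one_smul, F.κ_mul _ (mul_mem hq hx) _ (inv_mem hq), F.κ_mul _ hq _ hx,
      F.κ_inv hq, add_right_comm, W_add_self, zero_add]
  exact this ▸ h

theorem finite_Q : Finite Q := Nat.finite_of_card_ne_zero (by rw [F.card]; norm_num)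

theorem mem_of_ov {c : G} (h : Ov ρ c 1) : c ∈ Q := by
  have := F.finite_Q
  exact F.lx.mem_of_trivial fun x hx =>
    (F.κ_eq_iff (F.conj_mem h hx) hx).1 (by rw [F.κ_ov h hx, one_smul])

theorem ker_eq : ρ.ker = Q.subgroupOf (Subgroup.centralizer ({z} : Set G)) := by
  ext h
  rw [MonoidHom.mem_ker, Subgroup.mem_subgroupOf]
  exact ⟨fun e => F.mem_of_ov ⟨h.2, e⟩, fun e => (F.ov_Q e).2⟩

theorem inv_mul_mem {c d : G} {γ : GL12} (h : Ov ρ c γ) (h' : Ov ρ d γ) : c⁻¹ * d ∈ Q :=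
  F.mem_of_ov (inv_mul_cancel γ ▸ h.inv.mul h')

theorem mul_inv_mem {c d : G} {γ : GL12} (h : Ov ρ c γ) (h' : Ov ρ d γ) : c * d⁻¹ ∈ Q :=
  F.mem_of_ov (mul_inv_cancel γ ▸ h.mul h'.inv)

theorem ov_mul_left {q c : G} {γ : GL12} (hq : q ∈ Q) (h : Ov ρ c γ) : Ov ρ (q * c) γ :=
  one_mul γ ▸ (F.ov_Q hq).mul h

theorem ov_mul_right {q c : G} {γ : GL12} (hq : q ∈ Q) (h : Ov ρ c γ) : Ov ρ (c * q) γ :=
  mul_one γ ▸ h.mul (F.ov_Q hq)

theorem qf_range {γ : GL12} (h : γ ∈ ρ.range) (v : W) : qf (γ • v) = qf v := by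
  obtain ⟨c, hc⟩ := exists_ov_of_range h
  obtain ⟨x, hx, rfl⟩ := F.κ_surj v
  have h1 := F.sq _ (F.conj_mem hc hx)
  rw [F.κ_ov hc hx, show c * x * c⁻¹ * (c * x * c⁻¹) = c * (x * x) * c⁻¹ by group, F.sq x hx,
    F.zp_comm hc, mul_inv_cancel_right] at h1
  exact (zp_inj F.lx.z_ne h1).symm

theorem bf_range {γ : GL12} (h : γ ∈ ρ.range) (u v : W) : bf (γ • u) (γ • v) = bf u v :=
  bf_smul (F.qf_range h) u v

/-- Elements of `Q` outside the centre with related images are conjugate in `C(z)`. -/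
theorem exists_conj {γ : GL12} (h : γ ∈ ρ.range) {x y : G} (hx : x ∈ Q) (hy : y ∈ Q)
    (h0 : κ y ≠ 0) (e : γ • κ x = κ y) : ∃ c, Ov ρ c γ ∧ c * x * c⁻¹ = y := by
  obtain ⟨c, hc⟩ := exists_ov_of_range h
  rcases (F.κ_eq_iff hy (F.conj_mem hc hx)).1 (by rw [F.κ_ov hc hx, e]) with h1 | h1
  · exact ⟨c, hc, h1.symm⟩
  · have h2 : κ (c * x * c⁻¹) ≠ 0 := by rwa [F.κ_ov hc hx, e]
    rw [Ne, F.κ_zero _ (F.conj_mem hc hx), not_or] at h2
    obtain ⟨q, hq, e2⟩ := F.lx.exists_conj_eq_mul (F.conj_mem hc hx) h2.1 h2.2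
    exact ⟨q * c, F.ov_mul_left hq hc, by rw [h1, ← e2]; group⟩

theorem card_H [Finite G] :
    Nat.card (Subgroup.centralizer ({z} : Set G)) = Nat.card ρ.range * 2 ^ 13 := by
  rw [Subgroup.card_eq_card_quotient_mul_card_subgroup ρ.ker,
    Nat.card_congr (QuotientGroup.quotientKerEquivRange ρ).toEquiv, F.ker_eq, ← F.card,
    Nat.card_congr (Subgroup.subgroupOfEquivOfLe fun x hx =>
      Subgroup.mem_centralizer_singleton_iff.2 (F.lx.z_comm x hx)).toEquiv]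

/-! ### The section -/

theorem exists_x (h : Z0 ∈ ρ.range) : ∃ x, Ov ρ x Z0 ∧ x ^ 3 = 1 := by
  obtain ⟨y, hy⟩ := exists_ov_of_range h
  refine ⟨y ^ 4, ?_, ?_⟩
  · have := hy.pow 4
    rwa [pow_succ Z0, Z0_cube, one_mul] at this
  · rw [← pow_mul, mul_comm, pow_mul]
    exact F.lx.pow_four (F.mem_of_ov (Z0_cube ▸ hy.pow 3))

variable {x : G} (hx : Ov ρ x Z0)
include hx

theorem conj_mem' {q : G} (hq : q ∈ Q) : x⁻¹ * q * x ∈ Q := F.lx.norm' hx.comm hq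

theorem κ_ov' {q : G} (hq : q ∈ Q) : κ (x⁻¹ * q * x) = Z0⁻¹ • κ q := by
  have := F.κ_ov hx.inv hq
  rwa [inv_inv] at this

theorem nm_cases {q : G} (hq : q ∈ Q) : nm x q = 1 ∨ nm x q = z := by
  have h1 := F.conj_mem hx hq
  have h2 := F.conj_mem' hx hq
  rw [nm, ← F.κ_zero _ (mul_mem (mul_mem hq h1) h2), F.κ_mul _ (mul_mem hq h1) _ h2, F.κ_mul _ hq _ h1,
    F.κ_ov hx hq, F.κ_ov' hx hq, Z0_sum]

theorem nm_mul {u w : G} (hu : u ∈ Q) (hw : w ∈ Q) :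
    nm x (u * w) = nm x u * nm x w * zp z (bf (κ w) (Z0⁻¹ • κ u)) := by
  have u1 := F.conj_mem hx hu
  have u2 := F.conj_mem' hx hu
  have w1 := F.conj_mem hx hw
  have e1 := F.comm hw (mul_mem u1 u2)
  have e2 := F.comm w1 u2
  rw [F.κ_mul _ u1 _ u2, F.κ_ov hx hu, F.κ_ov' hx hu] at e1
  rw [F.κ_ov hx hw, F.κ_ov' hx hu] at e2
  have e3 : bf (κ w) (Z0 • κ u + Z0⁻¹ • κ u) + bf (Z0 • κ w) (Z0⁻¹ • κ u) =
      bf (κ w) (Z0⁻¹ • κ u) := by
    have : Z0⁻¹ • κ u = Z0 • Z0 • κ u := by rw [← Z0_sq, mul_smul]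
    rw [bf_add_right]
    conv_lhs => rw [this, bf_smul qf_Z0, ← this]
    rw [add_right_comm, z2_add_self, zero_add]
  have hw' : w * (x * w * x⁻¹) * (x⁻¹ * w * x) ∈ Q := mul_mem (mul_mem hw w1) (F.conj_mem' hx hw)
  rw [← e3, zp_add F.zz, nm, nm, nm]
  generalize bf (κ w) (Z0 • κ u + Z0⁻¹ • κ u) = a at e1
  generalize bf (Z0 • κ w) (Z0⁻¹ • κ u) = b at e2
  have c1 := F.zp_commQ (mul_mem w1 (F.conj_mem' hx hw)) a
  have c2 := F.zp_commQ (F.conj_mem' hx hw) b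
  calc u * w * (x * (u * w) * x⁻¹) * (x⁻¹ * (u * w) * x)
      = u * w * (x * u * x⁻¹) * ((x * w * x⁻¹) * (x⁻¹ * u * x)) * (x⁻¹ * w * x) := by group
    _ = u * (w * ((x * u * x⁻¹) * (x⁻¹ * u * x))) * (x * w * x⁻¹) *
        (zp z b * (x⁻¹ * w * x)) := by rw [e2]; group
    _ = u * ((x * u * x⁻¹) * (x⁻¹ * u * x)) * w * (zp z a * ((x * w * x⁻¹) *
        (x⁻¹ * w * x))) * zp z b := by rw [e1, ← c2]; group
    _ = _ := by rw [← c1]; group

theorem nm_zp (a : ZMod 2) : nm x (zp z a) = zp z a := by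
  rw [nm, F.zp_comm hx, F.zp_comm hx.inv, mul_inv_cancel_right, inv_mul_cancel_right, F.zp_sq,
    one_mul]

theorem nm_mul_zp {u : G} (hu : u ∈ Q) (a : ZMod 2) : nm x (u * zp z a) = nm x u * zp z a := by
  rw [F.nm_mul hx hu (F.zp_mem a), F.κ_zp, bf_zero_left, zp_zero, mul_one, F.nm_zp hx]

theorem lf_spec (v : W) : lf Q κ x v ∈ Q ∧ κ (lf Q κ x v) = v ∧ nm x (lf Q κ x v) = 1 := by
  have : ∃ q, q ∈ Q ∧ κ q = v ∧ nm x q = 1 := by
    obtain ⟨q, hq, rfl⟩ := F.κ_surj v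
    obtain ⟨a, ha⟩ := exists_zp (F.nm_cases hx hq)
    exact ⟨q * zp z a, mul_mem hq (F.zp_mem a), F.κ_mul_zp hq a,
      by rw [F.nm_mul_zp hx hq, ha, F.zp_sq]⟩
  exact Classical.epsilon_spec this

theorem lf_mem (v : W) : lf Q κ x v ∈ Q := (F.lf_spec hx v).1

theorem κ_lf (v : W) : κ (lf Q κ x v) = v := (F.lf_spec hx v).2.1

theorem eq_lf_mul {q : G} (hq : q ∈ Q) {a : ZMod 2} (h : nm x q = zp z a) :
    q = lf Q κ x (κ q) * zp z a := by
  obtain ⟨b, hb⟩ := F.exists_zp_of_κ hq (F.lf_mem hx (κ q)) (F.κ_lf hx _).symm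
  have := F.nm_mul_zp hx (F.lf_mem hx (κ q)) b
  rw [← hb, (F.lf_spec hx _).2.2, one_mul, h] at this
  rw [this]
  exact hb

theorem exists_eq_lf {q : G} (hq : q ∈ Q) : ∃ a, q = lf Q κ x (κ q) * zp z a :=
  F.exists_zp_of_κ hq (F.lf_mem hx (κ q)) (F.κ_lf hx _).symm

theorem lf_zero : lf Q κ x 0 = 1 := by
  have := F.eq_lf_mul hx (one_mem Q) (a := 0) (by simp [nm, zp_zero])
  rw [F.κ_one, zp_zero, mul_one] at this
  exact this.symm

theorem lf_mul (u w : W) :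
    lf Q κ x u * lf Q κ x w = lf Q κ x (u + w) * zp z (bf w (Z0⁻¹ • u)) := by
  have hu := F.lf_spec hx u
  have hw := F.lf_spec hx w
  have := F.eq_lf_mul hx (mul_mem hu.1 hw.1) (a := bf w (Z0⁻¹ • u)) (by
    rw [F.nm_mul hx hu.1 hw.1, hu.2.2, hw.2.2, hu.2.1, hw.2.1, one_mul, one_mul])
  rwa [F.κ_mul _ hu.1 _ hw.1, hu.2.1, hw.2.1] at this

theorem lf_inv (v : W) : (lf Q κ x v)⁻¹ = lf Q κ x v * zp z (qf v) := by
  rw [inv_eq_iff_mul_eq_one, ← mul_assoc, F.sq _ (F.lf_mem hx v), F.κ_lf hx, F.zp_sq]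

theorem conj_lf {c : G} {γ : GL12} (hc : Ov ρ c γ) (e : c * x = x * c) (v : W) :
    c * lf Q κ x v * c⁻¹ = lf Q κ x (γ • v) := by
  have hv := F.lf_spec hx v
  have := F.eq_lf_mul hx (F.conj_mem hc hv.1) (a := 0) (by
    have e1 : x * c = c * x := e.symm
    have e2 : x⁻¹ * c = c * x⁻¹ := (show Commute x c from e1).inv_left.eq
    calc nm x (c * lf Q κ x v * c⁻¹)
        = c * lf Q κ x v * c⁻¹ * ((x * c) * lf Q κ x v * (x * c)⁻¹) *
          ((x⁻¹ * c) * lf Q κ x v * (x⁻¹ * c)⁻¹) := by rw [nm]; group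
      _ = c * nm x (lf Q κ x v) * c⁻¹ := by rw [e1, e2, nm]; group
      _ = _ := by rw [hv.2.2, zp_zero]; group)
  rwa [F.κ_ov hc hv.1, hv.2.1, zp_zero, mul_one] at this

theorem conj_lf_inv {c : G} {γ : GL12} (hc : Ov ρ c γ) (e : c * x * c⁻¹ = x⁻¹) (v : W) :
    c * lf Q κ x v * c⁻¹ = lf Q κ x (γ • v) * zp z (qf v) := by
  have hv := F.lf_spec hx v
  have := F.eq_lf_mul hx (F.conj_mem hc hv.1) (a := qf v) (by
    have e2 : x⁻¹ * c = c * x := by rw [← e]; group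
    have e1 : x * c = c * x⁻¹ := by
      rw [← inv_inv x, ← e]
      have : (c * x * c⁻¹)⁻¹⁻¹ = x⁻¹ := by rw [inv_inv, e]
      rw [this]; group
    have e3 := F.comm (F.conj_mem' hx hv.1) (F.conj_mem hx hv.1)
    have e4 : bf (Z0⁻¹ • v) (Z0 • v) = qf v := by
      rw [← Z0_sq, mul_smul, bf_comm, bf_Z0_self, qf_Z0]
    rw [F.κ_ov' hx hv.1, F.κ_ov hx hv.1, hv.2.1, e4] at e3
    calc nm x (c * lf Q κ x v * c⁻¹)
        = c * lf Q κ x v * c⁻¹ * ((x * c) * lf Q κ x v * (x * c)⁻¹) *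
          ((x⁻¹ * c) * lf Q κ x v * (x⁻¹ * c)⁻¹) := by rw [nm]; group
      _ = c * (lf Q κ x v * ((x⁻¹ * lf Q κ x v * x) * (x * lf Q κ x v * x⁻¹))) * c⁻¹ := by
        rw [e1, e2]; group
      _ = c * (nm x (lf Q κ x v) * zp z (qf v)) * c⁻¹ := by rw [e3, nm]; group
      _ = _ := by rw [hv.2.2, one_mul, F.zp_comm hc, mul_inv_cancel_right])
  rwa [F.κ_ov hc hv.1, hv.2.1] at this

theorem cent_Q {q : G} (hq : q ∈ Q) (e : q * x = x * q) : q = 1 ∨ q = z := by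
  refine (F.κ_zero q hq).1 (eq_zero_of_Z0 ?_)
  rw [← F.κ_ov hx hq, ← e, mul_inv_cancel_right]

/-- Elements of order 3 over `ω` are conjugate under `Q`. -/
theorem exists_conj_x (h3 : x ^ 3 = 1) {y : G} (hy : Ov ρ y Z0) (hy3 : y ^ 3 = 1) :
    ∃ q ∈ Q, q * y * q⁻¹ = x := by
  have hq := F.mul_inv_mem hx hy
  obtain ⟨q, hq', e⟩ := F.κ_surj (Z0 • κ (x * y⁻¹))
  have h1 : q * (y * q⁻¹ * y⁻¹) ∈ Q := mul_mem hq' (F.conj_mem hy (inv_mem hq'))
  obtain ⟨a, ha⟩ := F.exists_zp_of_κ h1 hq (by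
    rw [F.κ_mul _ hq' _ (F.conj_mem hy (inv_mem hq')), F.κ_ov hy (inv_mem hq'), F.κ_inv hq', add_Z0,
      e, inv_smul_smul])
  have h2 : q * y * q⁻¹ = x * zp z a := by
    calc q * y * q⁻¹ = q * (y * q⁻¹ * y⁻¹) * y := by group
      _ = x * (y⁻¹ * zp z a) * y := by rw [ha]; group
      _ = _ := by rw [F.zp_comm hy.inv]; group
  have h4 : (x * zp z a) ^ 3 = 1 := by rw [← h2, conj_pow, hy3]; group
  rw [(show Commute x (zp z a) from F.zp_comm hx a).mul_pow, h3, one_mul, pow_succ, pow_two,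
    F.zp_sq, one_mul] at h4
  exact ⟨q, hq', by rw [h2, h4, mul_one]⟩

theorem exists_cent (h3 : x ^ 3 = 1) {γ : GL12} (h : γ ∈ ρ.range) (e : γ * Z0 = Z0 * γ) :
    ∃ c, Ov ρ c γ ∧ c * x = x * c := by
  obtain ⟨c, hc⟩ := exists_ov_of_range h
  have h1 := hc.conj hx
  rw [e, mul_inv_cancel_right] at h1
  obtain ⟨q, hq, e2⟩ := F.exists_conj_x hx h3 h1 (by rw [conj_pow, h3]; group)
  refine ⟨q * c, F.ov_mul_left hq hc, ?_⟩
  calc q * c * x = q * (c * x * c⁻¹) * q⁻¹ * (q * c) := by group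
    _ = _ := by rw [e2]

theorem exists_inverting (h3 : x ^ 3 = 1) {γ : GL12} (h : γ ∈ ρ.range)
    (e : γ * Z0 * γ⁻¹ = Z0⁻¹) : ∃ c, Ov ρ c γ ∧ c * x * c⁻¹ = x⁻¹ := by
  obtain ⟨c, hc⟩ := exists_ov_of_range h
  have h1 := (hc.conj hx).inv
  rw [e, inv_inv] at h1
  obtain ⟨q, hq, e2⟩ := F.exists_conj_x hx h3 h1 (by rw [inv_pow, conj_pow, h3]; group)
  refine ⟨q * c, F.ov_mul_left hq hc, ?_⟩
  calc q * c * x * (q * c)⁻¹ = (q * (c * x * c⁻¹)⁻¹ * q⁻¹)⁻¹ := by group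
    _ = _ := by rw [e2]

theorem cent_eq {c d : G} {γ : GL12} (hc : Ov ρ c γ) (hd : Ov ρ d γ) (e1 : c * x = x * c)
    (e2 : d * x = x * d) : ∃ a, c = d * zp z a := by
  obtain ⟨a, ha⟩ := exists_zp (F.cent_Q hx (F.inv_mul_mem hd hc)
    ((show Commute d x from e2).inv_left.mul_left e1).eq)
  exact ⟨a, by rw [← ha]; group⟩

end Frame

end CL.F24
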