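import Mathlib
import Cfsg.Agent.SPOR.F24.Ident
import Cfsg.Agent.SPOR.F24.Frame

/-!
Computations in the model group `3.U_4(3)` on `F_4^6`: orbits, the stabiliser `2^4 : A_6` of a
singular vector, Sylow 2-subgroups.
-/

set_option autoImplicit false
set_option maxHeartbeats 400000

namespace CL.F24

open Finset CL.K CL.CG CL.F2M Cfsg MulAction

attribute [local irreducible] gcode vcode

/-! ### Groups given by a polycyclic list of generators -/

/-- membership in a list -/
noncomputable def memB (x : ℕ) (L : List ℕ) : Bool := lany (fun y => Nat.beq x y) L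

theorem memB_iff {x : ℕ} {L : List ℕ} : memB x L = true ↔ x ∈ L := by
  rw [memB, lany_iff]
  exact ⟨fun ⟨_, hy, e⟩ => eq_of_beq e ▸ hy, fun h => ⟨x, h, Nat.beq_refl x⟩⟩

/-- no repetitions -/
noncomputable def nodupB (L : List ℕ) : Bool :=
  List.rec (motive := fun _ => Bool) true (fun a l ih => !memB a l && ih) L

theorem nodup_of_nodupB {L : List ℕ} (h : nodupB L = true) : L.Nodup := by
  induction L with
  | nil => exact List.nodup_nil
  | cons a l ih =>
    have h' : (!memB a l && nodupB l) = true := h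
    rw [Bool.and_eq_true, Bool.not_eq_true', ← Bool.not_eq_true, memB_iff] at h'
    exact List.nodup_cons.2 ⟨h'.1, ih h'.2⟩

/-- all products of a sublist -/
noncomputable def pcl (gs : List ℕ) : List ℕ :=
  List.rec (motive := fun _ => List ℕ) [c1] (fun g _ ih => ih ++ lmap (mm g) ih) gs

theorem pcl_cons (g : ℕ) (gs : List ℕ) : pcl (g :: gs) = pcl gs ++ (pcl gs).map (mm g) := by
  rw [← lmap_eq]; rfl

/-- `pcl`, evaluated and handed to `k` -/
noncomputable def pclK (gs : List ℕ) : (List ℕ → Bool) → Bool :=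
  List.rec (motive := fun _ => (List ℕ → Bool) → Bool) (fun k => k [c1])
    (fun g _ ih k => ih fun P => forceL (P ++ lmap (mm g) P) k) gs

theorem pclK_eq (gs : List ℕ) (k : List ℕ → Bool) : pclK gs k = k (pcl gs) := by
  induction gs generalizing k with
  | nil => rfl
  | cons g gs ih =>
    change pclK gs (fun P => forceL (P ++ lmap (mm g) P) k) = _
    rw [ih, forceL_eq]; rfl

theorem length_pcl (gs : List ℕ) : (pcl gs).length = 2 ^ gs.length := by
  induction gs with
  | nil => rfl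
  | cons g gs ih => rw [pcl_cons, List.length_append, List.length_map, ih, List.length_cons]; ring

theorem one_mem_pcl (gs : List ℕ) : c1 ∈ pcl gs := by
  induction gs with
  | nil => exact List.mem_singleton_self _
  | cons g gs ih => rw [pcl_cons]; exact List.mem_append_left _ ih

theorem mem_of_pcl {H : Subgroup GL12} {gs : List ℕ} (h : ∀ c ∈ gs, Mem gcode H c) :
    ∀ c ∈ pcl gs, Mem gcode H c := by
  induction gs with
  | nil => intro c hc; rw [List.mem_singleton.1 hc]; exact C12.mem_one H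
  | cons g gs ih =>
    intro c hc
    have ih' := ih fun c hc => h c (List.mem_cons_of_mem _ hc)
    rw [pcl_cons, List.mem_append, List.mem_map] at hc
    rcases hc with hc | ⟨d, hd, rfl⟩
    · exact ih' c hc
    · exact C12.mem_mul (h g List.mem_cons_self) (ih' d hd)

/-- the products form a group -/
noncomputable def pcOK (gs : List ℕ) : Bool :=
  pclK gs fun P => nodupB P &&
    lall (fun g => lall (fun x => force (mm g x) fun y => memB y P) P) gs

theorem pc_spec {H : Subgroup GL12} {gs : List ℕ} (hL : ∀ c ∈ gs, Mem gcode H c)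
    (h : pcOK gs = true) : (∀ g : GL12, g ∈ gen gcode gs ↔ gcode g ∈ pcl gs) ∧
      Nat.card (gen gcode gs : Subgroup GL12) = 2 ^ gs.length := by
  rw [pcOK, pclK_eq, Bool.and_eq_true] at h
  have h1 : ∀ g : GL12, g ∈ gen gcode gs ↔ gcode g ∈ pcl gs := fun g =>
    ⟨gen_induction (Q := fun g => gcode g ∈ pcl gs) (C12.map_one ▸ one_mem_pcl gs)
      (fun j hj s e g hg => by
        have := lall_iff.1 (lall_iff.1 h.2 _ (lget_mem hj)) _ hg
        rwa [force_eq, ← e, C12.map_mul, memB_iff] at this) g,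
      fun hg => C12.mem_iff.1 (mem_of_pcl (mem_gen hL) _ hg)⟩
  refine ⟨h1, ?_⟩
  have h2 : gcode '' ((gen gcode gs : Subgroup GL12) : Set GL12) = ↑(pcl gs).toFinset := by
    ext c
    simp only [Set.mem_image, SetLike.mem_coe, List.coe_toFinset, Set.mem_ofPred_eq]
    exact ⟨fun ⟨g, hg, e⟩ => e ▸ (h1 g).1 hg, fun hc => mem_of_pcl (mem_gen hL) c hc⟩
  rw [← length_pcl, ← List.toFinset_card_of_nodup (nodup_of_nodupB h.1), ← Set.ncard_coe_finset,
    ← h2, Set.ncard_image_of_injective _ C12.inj]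
  rfl

theorem le_of_normal_two {G : Type*} [Group G] [Finite G] {Y S K : Subgroup G} (hS : S ≤ Y)
    (hK : K ≤ Y) (hK2 : IsPGroup 2 K) (hn : ∀ y ∈ Y, ∀ k ∈ K, y * k * y⁻¹ ∈ K) {b m : ℕ}
    (hb : Nat.card S = 2 ^ b) (hm : Nat.card Y = 2 ^ b * m) (ho : Odd m) : K ≤ S := by
  have h1 : IsPGroup 2 (K ⊔ S : Subgroup G) := hK2.to_sup_of_normal_left' (IsPGroup.of_card hb)
    fun s hs => Subgroup.mem_normalizer_fintype (S := (K : Set G)) (hn s (hS hs))
  obtain ⟨a, ha⟩ := h1.exists_card_eq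
  have h2 : 2 ^ a ∣ 2 ^ b * m := ha ▸ hm ▸ Subgroup.card_dvd_of_le (sup_le hK hS)
  have h3 := Nat.le_of_dvd (Nat.two_pow_pos b)
    ((Nat.Coprime.pow_left a (Nat.coprime_two_left.2 ho)).dvd_of_dvd_mul_right h2)
  exact le_sup_left.trans (Subgroup.eq_of_le_of_card_ge le_sup_right (by rw [ha, hb]; exact h3)).ge

/-! ### Data -/

/-- the 378 roots -/
def S5 : ℕ := 0x824024804820000024804820824000004820824024800000000000000000000124804820824000004820824024800000824024804820000000000000000000014820824024800000824024804820000024804820824000000000000000000001000000000000000100000000000000010000000000000001000100010001111e248048208240000048208240248000008240248048200000000000000000000148208240248000008240248048200000248048208240000000000000000000018240248048200000248048208240000048208240248000000000000000000001000000000000000100000000000000010000000000000001000100010001111e482082402480000082402480482000002480482082400000000000000000000182402480482000002480482082400000482082402480000000000000000000012480482082400000482082402480000082402480482000000000000000000001000000000000000100000000000000010000000000000001000100010001111e000000000000000100000000000000010000000000000001000100010001111e000000000000000100000000000000010000000000000001000100010001111e000000000000000100000000000000010000000000000001000100010001111e000100010001111e000100010001111e000100010001111e111e111e111eeee0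
/-- the other 1701 singular vectors -/
def S85 : ℕ := 0x6ca1ca61a6c1111eca61a6c16ca1111ea6c16ca1ca61111e111e111e111eeee0ca61a6c16ca1111ea6c16ca1ca61111e6ca1ca61a6c1111e111e111e111eeee0a6c16ca1ca61111e6ca1ca61a6c1111eca61a6c16ca1111e111e111e111eeee0111e111e111eeee0111e111e111eeee0111e111e111eeee0eee0eee0eee00000ca61a6c16ca1111ea6c16ca1ca61111e6ca1ca61a6c1111e111e111e111eeee0a6c16ca1ca61111e6ca1ca61a6c1111eca61a6c16ca1111e111e111e111eeee06ca1ca61a6c1111eca61a6c16ca1111ea6c16ca1ca61111e111e111e111eeee0111e111e111eeee0111e111e111eeee0111e111e111eeee0eee0eee0eee00000a6c16ca1ca61111e6ca1ca61a6c1111eca61a6c16ca1111e111e111e111eeee06ca1ca61a6c1111eca61a6c16ca1111ea6c16ca1ca61111e111e111e111eeee0ca61a6c16ca1111ea6c16ca1ca61111e6ca1ca61a6c1111e111e111e111eeee0111e111e111eeee0111e111e111eeee0111e111e111eeee0eee0eee0eee00000111e111e111eeee0111e111e111eeee0111e111e111eeee0eee0eee0eee00000111e111e111eeee0111e111e111eeee0111e111e111eeee0eee0eee0eee00000111e111e111eeee0111e111e111eeee0111e111e111eeee0eee0eee0eee00000eee0eee0eee00000eee0eee0eee00000eee0eee0eee000000000000000000000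
/-- the 2016 non-singular vectors -/
def SN : ℕ := 0x111e111e111eeee1111e111e111eeee1111e111e111eeee1eee1eee1eee1111e111e111e111eeee1111e111e111eeee1111e111e111eeee1eee1eee1eee1111e111e111e111eeee1111e111e111eeee1111e111e111eeee1eee1eee1eee1111eeee1eee1eee1111eeee1eee1eee1111eeee1eee1eee1111e111e111e111eeee1111e111e111eeee1111e111e111eeee1111e111e111eeee1eee1eee1eee1111e111e111e111eeee1111e111e111eeee1111e111e111eeee1eee1eee1eee1111e111e111e111eeee1111e111e111eeee1111e111e111eeee1eee1eee1eee1111eeee1eee1eee1111eeee1eee1eee1111eeee1eee1eee1111e111e111e111eeee1111e111e111eeee1111e111e111eeee1111e111e111eeee1eee1eee1eee1111e111e111e111eeee1111e111e111eeee1111e111e111eeee1eee1eee1eee1111e111e111e111eeee1111e111e111eeee1111e111e111eeee1eee1eee1eee1111eeee1eee1eee1111eeee1eee1eee1111eeee1eee1eee1111e111e111e111eeee1eee1eee1eee1111eeee1eee1eee1111eeee1eee1eee1111e111e111e111eeee1eee1eee1eee1111eeee1eee1eee1111eeee1eee1eee1111e111e111e111eeee1eee1eee1eee1111eeee1eee1eee1111eeee1eee1eee1111e111e111e111eeee1111e111e111eeee1111e111e111eeee1111e111e111eeee1eee1eee1eee1111e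
/-- an element of order 5 fixing `s0` -/
def cf5 : ℕ := 0xa2d51ba8d54b558ff42ad15b8ad45bff2aa1
/-- its inverse -/
def cf5i : ℕ := 0xac9587ae15932e91978e9497594f7cf3ea29
/-- an element of order 4 fixing `s0` -/
def cy2 : ℕ := 0x300200400c00020010002001080040008004
/-- its inverse -/
def cy2i : ℕ := 0x300200400c00008004080040002001020010
/-- the semilinear reflection -/
def cu : ℕ := 0x3ff155cff455f3f515fcf545ff3551ffc554
/-- generators of `O_2` of the stabiliser of `s0` -/
def LD : List ℕ := [0x8ff4aa2551ff78ae4572ae157a8e547a2e51, 0x800400200100002001008004020010080040, 0x800400200100020010080040002001008004, 0x8aa4552aa155a2a515a8a545aa2551aa8554]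
/-- generators of a Sylow 2-subgroup of the linear group -/
def LT : List ℕ := [0x8a545f2fa1a5ef89a4ef29a198574f92571f, 0x200100800400020010080040008004002001, 0x2f51af8f54af52ff1a58ff4af58af4f52af1] ++ LD
/-- generators of a Sylow 2-subgroup of the stabiliser of a root -/
def LS : List ℕ := [0x8af45a25a1f5b8f64ab2f61a658df4652df1, 0x8a545f2fa1a592571f98574fef29a1ef89a4, 0x10f30ac508f0470ce04d0cb030720e30d20b, 0x8ff4aa2551ff78ae4572ae157a8e547a2e51, 0x8aa4552aa155a2a515a8a545aa2551aa8554, 0x800400200100020010080040002001008004]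
/-- an element fixing the root -/
def cyS : ℕ := 0xc0080100300800400020010002001008004
/-- its inverse -/
def cySi : ℕ := 0x80040300200400c00020010002001008004
/-- six reflections -/
def LU : List ℕ := [0x3ff155cff455f3f515fcf545ff3551ffc554, 0x3aa1ffc554aa93fe159cfe459f3e519fce54, 0x300100c0040000300100c0040300100c0040, 0x300100c004000300100c004000300100c004, 0x3551aacaa4ff63fb156cfb456f3b516fcb54, 0x300100c0040000c0040030010c0040030010]
/-- fixed vectors of `cf5` -/
def F16 : List ℕ := [0, 85, 170, 255, 1283, 1366, 1449, 1532, 2561, 2644, 2731, 2814, 3842, 3927, 4008, 4093]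
/-- words giving a basis from the vector 1283 -/
def We (j : ℕ) : List ℕ := [[], [0], [2], [0, 2], [2, 1], [2, 2], [0, 2, 1], [0, 2, 2], [2, 1, 2], [2, 2, 1], [2, 2, 2], [0, 2, 1, 2]].getD j []
/-- inverse of the matrix of that basis -/
def cBi : ℕ := 0x6b2bfdd32659684b00e43a3e0e709e627b82
/-- words -/
def wdsY : List (ℕ × List ℕ) := [(0xa2d51ba8d54b558ff42ad15b8ad45bff2aa1, [3, 3, 4, 3, 1, 1, 1]), (0x300200400c00020010002001080040008004, [3, 3, 1, 1, 1, 1, 2, 1, 3, 1, 2, 1, 1, 3, 0])]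
/-- words -/
def wdsT : List (ℕ × List ℕ) := [(0x8a545f2fa1a5ef89a4ef29a198574f92571f, [0, 0, 0, 1, 0, 0]),
  (0x200100800400020010080040008004002001, [1, 0, 1, 1, 0, 1, 0, 0, 1, 0, 1, 0]),
  (0x2f51af8f54af52ff1a58ff4af58af4f52af1, [0, 0, 1, 0, 0, 1, 1, 0]),
  (0x8ff4aa2551ff78ae4572ae157a8e547a2e51, [0, 0, 0, 1, 1, 0, 0]),
  (0x800400200100002001008004020010080040, [1, 1]),
  (0x800400200100020010080040002001008004, [0, 0, 1, 1, 0, 0, 0]),
  (0x8aa4552aa155a2a515a8a545aa2551aa8554, [0, 1, 1, 0, 0, 0, 0])]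
/-- words -/
def wdsC : List (ℕ × List ℕ) := [(0xa2d51ba8d54b558ff42ad15b8ad45bff2aa1, [0]),
  (0x300200400c00020010002001080040008004, [1]),
  (0x800400200100002001008004020010080040, [1, 1]),
  (0x800400200100020010080040002001008004, [0, 0, 1, 1, 0, 0, 0]),
  (0x800400200100002001020010080040008004, [1, 0, 1, 0, 0, 0, 1, 0, 0, 1, 0, 0, 0, 0])]
/-- words -/
def wdsS : List (ℕ × List ℕ) := [(0xc0080100300800400020010002001008004, [1, 1, 1, 1, 6, 6, 6]),
  (0x8af45a25a1f5b8f64ab2f61a658df4652df1, [5, 6, 5, 6, 5, 6, 6, 5, 6, 5, 5, 6]),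
  (0x8a545f2fa1a592571f98574fef29a1ef89a4, [5, 5, 5, 6, 5, 5, 6, 6]),
  (0x10f30ac508f0470ce04d0cb030720e30d20b, [6, 5, 6, 5, 5, 6, 5]),
  (0x8ff4aa2551ff78ae4572ae157a8e547a2e51, [5, 5, 5, 6, 6, 5, 5]),
  (0x8aa4552aa155a2a515a8a545aa2551aa8554, [5, 6, 6, 5, 5, 5, 5]),
  (0x800400200100020010080040002001008004, [5, 5, 6, 6, 5, 5, 5])]

/-- the linear group `3.U_4(3)` -/
def Γ0 : Subgroup GL12 := gen gcode L0
/-- the stabiliser of `s0` in it -/
def Y0 : Subgroup GL12 := gen gcode [cf5, cy2]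
/-- `O_2(Y0)` -/
def D0 : Subgroup GL12 := gen gcode LD
/-- a Sylow 2-subgroup of `Γ0` -/
def T0 : Subgroup GL12 := gen gcode LT
/-- the vector `(1, 1, 1, 1, 0, 0)` -/
def s0 : W := vdec 12 85
/-- the root `(1, 1, 0, 0, 0, 0)` -/
def r0 : W := vdec 12 5

theorem code_s0 : vcode s0 = 85 := vcode_vdec (by norm_num)

theorem code_r0 : vcode r0 = 5 := vcode_vdec (by norm_num)

theorem top_L0 : ∀ c ∈ L0, Mem (gcode : GL12 → ℕ) ⊤ c := by
  simp only [L0, List.forall_mem_cons, List.not_mem_nil, IsEmpty.forall_iff, implies_true, and_true]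
  exact ⟨ok12.mem_of_unitB (b := cZZ) (by decide +kernel),
    ok12.mem_of_unitB (b := mm (mm cf cf) (mm cf cf)) (by decide +kernel),
    ok12.mem_of_unitB (b := ct) (by decide +kernel),
    ok12.mem_of_unitB (b := mm cd cd) (by decide +kernel),
    ok12.mem_of_unitB (b := cw) (by decide +kernel)⟩

theorem mem_L0 : ∀ c ∈ L0, Mem gcode Γ0 c := mem_gen top_L0

theorem mem_LY0 : ∀ c ∈ [cf5, cy2], Mem gcode Γ0 c :=
  C12.mem_of_wordsB mem_L0 (W := wdsY) (by decide +kernel)

theorem mem_LY : ∀ c ∈ [cf5, cy2], Mem gcode Y0 c := mem_gen mem_LY0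

theorem mem_L1 : ∀ c ∈ L0 ++ [cf5, cy2], Mem gcode Γ0 c := fun c hc =>
  (List.mem_append.1 hc).elim (mem_L0 c) (mem_LY0 c)

theorem Y0_le : Y0 ≤ Γ0 := C12.gen_le mem_LY0

theorem mem_LT : ∀ c ∈ LT, Mem gcode Y0 c :=
  C12.mem_of_wordsB mem_LY (W := wdsT) (by decide +kernel)

theorem mem_LD : ∀ c ∈ LD, Mem gcode Y0 c := fun c hc => mem_LT c (List.mem_append_right _ hc)

theorem T0_le : T0 ≤ Y0 := C12.gen_le mem_LT

theorem D0_le : D0 ≤ Y0 := C12.gen_le mem_LD

theorem T0_spec : (∀ g : GL12, g ∈ T0 ↔ gcode g ∈ pcl LT) ∧ Nat.card T0 = 2 ^ 7 :=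
  pc_spec mem_LT (by decide +kernel)

theorem D0_spec : (∀ g : GL12, g ∈ D0 ↔ gcode g ∈ pcl LD) ∧ Nat.card D0 = 2 ^ 4 :=
  pc_spec mem_LD (by decide +kernel)

theorem Z0_mem : Z0 ∈ Γ0 := C12.elt_mem (mem_L0 _ List.mem_cons_self)

theorem comm_Z0 {g : GL12} (hg : g ∈ Γ0) : g * Z0 = Z0 * g :=
  C12.comm_of_commB top_L0 (top_L0 _ List.mem_cons_self) (by decide +kernel) g hg

theorem orbit_r0 : (orbit Γ0 r0).ncard = 378 ∧
    ∀ v, v ∈ orbit Γ0 r0 ↔ S5.testBit (vcode v) = true :=
  A12.orbit_eq C12 top_L0 (b := 5) (by norm_num) (by decide +kernel)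

theorem orbit_s0 : (orbit Γ0 s0).ncard = 1701 ∧
    ∀ v, v ∈ orbit Γ0 s0 ↔ S85.testBit (vcode v) = true :=
  A12.orbit_eq C12 top_L0 (b := 85) (by norm_num) (by decide +kernel)

theorem orbit_e0 : (orbit Γ0 (vdec 12 1)).ncard = 2016 ∧
    ∀ v, v ∈ orbit Γ0 (vdec 12 1) ↔ SN.testBit (vcode v) = true :=
  A12.orbit_eq C12 top_L0 (b := 1) (by norm_num) (by decide +kernel)

theorem vec_cases (v : W) : (v = 0 ∨ v ∈ orbit Γ0 r0 ∨ v ∈ orbit Γ0 s0 ∨
    v ∈ orbit Γ0 (vdec 12 1)) ∧ (qf v = 1 ↔ v ∈ orbit Γ0 (vdec 12 1)) := by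
  have : allN (fun c => (Nat.beq c 0 || Nat.beq (bit S5 c) 1 || Nat.beq (bit S85 c) 1 ||
    Nat.beq (bit SN c) 1) && Nat.beq (qC c) (bit SN c)) 4096 = true := by decide +kernel
  have h := allN_spec this _ (vcode_lt v)
  simp only [Bool.and_eq_true, Bool.or_eq_true, Nat.beq_eq, bit_eq_one_iff] at h
  rw [orbit_r0.2, orbit_s0.2, orbit_e0.2, ← bit_eq_one_iff (n := SN), ← h.2, qC_code]
  refine ⟨?_, by generalize qf v = a; revert a; decide⟩
  rcases h.1 with ((h1 | h1) | h1) | h1
  · exact Or.inl (vcode_injective (h1.trans vcode_zero.symm))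
  · exact Or.inr (Or.inl h1)
  · exact Or.inr (Or.inr (Or.inl h1))
  · rw [← qC_code, h.2, bit_eq_one_iff]; exact Or.inr (Or.inr (Or.inr h1))

theorem not_mem_both {v : W} (h : v ∈ orbit Γ0 r0) : v ∉ orbit Γ0 s0 := by
  rw [orbit_r0.2] at h
  rw [orbit_s0.2]
  intro h'
  have : S5 &&& S85 = 0 := by decide +kernel
  have h2 := Nat.testBit_and S5 S85 (vcode v)
  rw [this, h, h', Nat.zero_testBit] at h2
  exact Bool.noConfusion h2

theorem fix_of_gen {L : List ℕ} (hL : ∀ c ∈ L, Mem (gcode : GL12 → ℕ) ⊤ c) {b : ℕ} (hb : b < 4096)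
    (h : lall (fun c => Nat.beq (ac c b) b) L = true) :
    gen gcode L ≤ stabilizer GL12 (vdec 12 b) :=
  (C12.gen_le_iff hL).2 fun c hc => by
    have := (A12.dec (hL c hc) (v := b) hb).1
    rw [eq_of_beq (lall_iff.1 h c hc)] at this
    exact this

theorem Y0_fix : Y0 ≤ stabilizer GL12 s0 :=
  fix_of_gen (fun c hc => (mem_LY c hc).top) (by norm_num) (by decide +kernel)

theorem le_card_Y0 : 5760 ≤ Nat.card Y0 :=
  A12.chain_le C12 (B := [(256, 480), (6, 12)]) (L := wdsC.map Prod.fst)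
    (C12.mem_of_wordsB mem_LY (W := wdsC) (by decide +kernel)) (by decide +kernel)

theorem le_card_Γ0 : 9797760 ≤ Nat.card Γ0 := by
  rw [card_eq_orbit_mul Γ0 s0, orbit_s0.1]
  exact Nat.mul_le_mul_left 1701 (le_card_Y0.trans (Subgroup.card_le_of_le (le_inf Y0_le Y0_fix)))

theorem stab_s0 (h : Nat.card Γ0 = 9797760) :
    Γ0 ⊓ stabilizer GL12 s0 = Y0 ∧ Nat.card Y0 = 5760 := by
  have h1 := card_eq_orbit_mul Γ0 s0
  rw [h, orbit_s0.1] at h1
  have h2 := le_card_Y0
  have h3 := Subgroup.eq_of_le_of_card_ge (le_inf Y0_le Y0_fix) (by omega)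
  exact ⟨h3.symm, by rw [h3]; omega⟩

theorem le_D0 (h : Nat.card Γ0 = 9797760) {K : Subgroup GL12} (hK : K ≤ Y0) (h2 : IsPGroup 2 K)
    (hn : ∀ y ∈ Y0, ∀ k ∈ K, y * k * y⁻¹ ∈ K) : K ≤ D0 := by
  have h1 := le_of_normal_two T0_le hK h2 hn (m := 45) T0_spec.2 (stab_s0 h).2 (by decide)
  have : (pclK LT fun P => pclK LD fun P' => lall (fun x => memB x P' ||
    force (mm (mm cy2 x) cy2i) fun y => !memB y P) P) = true := by decide +kernel
  rw [pclK_eq, pclK_eq, lall_iff] at this
  intro k hk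
  obtain ⟨y, hy, e⟩ := mem_LY cy2 (by simp)
  have h3 := this _ ((T0_spec.1 k).1 (h1 hk))
  rw [← code_inv e (b := cy2i) (by decide +kernel), ← e, C12.map_mul, C12.map_mul, force_eq,
    memB_iff.2 ((T0_spec.1 _).1 (h1 (hn y hy k hk))), Bool.not_true, Bool.or_false, memB_iff] at h3
  exact (D0_spec.1 k).2 h3

theorem eq_bot_of_r0 (h : Nat.card Γ0 = 9797760) {K : Subgroup GL12}
    (hK : K ≤ Γ0 ⊓ stabilizer GL12 r0) (h2 : IsPGroup 2 K)
    (hn : ∀ y ∈ Γ0 ⊓ stabilizer GL12 r0, ∀ k ∈ K, y * k * y⁻¹ ∈ K) : K = ⊥ := by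
  have m1 : ∀ c ∈ cyS :: LS, Mem gcode Γ0 c :=
    C12.mem_of_wordsB mem_L1 (W := wdsS) (by decide +kernel)
  have m2 : gen gcode (cyS :: LS) ≤ Γ0 ⊓ stabilizer GL12 r0 := le_inf (C12.gen_le m1)
    (fix_of_gen (fun c hc => (m1 c hc).top) (by norm_num) (by decide +kernel))
  have m3 : ∀ c ∈ LS, Mem gcode (Γ0 ⊓ stabilizer GL12 r0) c := fun c hc =>
    (mem_gen m1 c (List.mem_cons_of_mem _ hc)).mono m2
  have hS := pc_spec m3 (by decide +kernel)
  have h0 := card_eq_orbit_mul Γ0 r0
  rw [h, orbit_r0.1] at h0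
  have h00 : Nat.card ↥(Γ0 ⊓ stabilizer GL12 r0) = 2 ^ 6 * 405 := by omega
  have h1 := le_of_normal_two (C12.gen_le m3) hK h2 hn (b := 6) (m := 405) hS.2 h00 (by decide)
  have : (pclK LS fun P => lall (fun x => Nat.beq x c1 ||
    force (mm (mm cyS x) cySi) fun y => !memB y P) P) = true := by decide +kernel
  rw [pclK_eq, lall_iff] at this
  rw [eq_bot_iff]
  intro k hk
  obtain ⟨y, hy, e⟩ := (mem_gen m1 cyS List.mem_cons_self).mono m2
  have h3 := this _ ((hS.1 k).1 (h1 hk))
  rw [← code_inv e (b := cySi) (by decide +kernel), ← e, C12.map_mul, C12.map_mul, force_eq,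
    memB_iff.2 ((hS.1 _).1 (h1 (hn y hy k hk))), Bool.not_true, Bool.or_false, ← C12.map_one] at h3
  exact C12.inj (eq_of_beq h3)

/-- the test that singles out `cu` -/
noncomputable def uTest (Z' : ℕ) (P : List ℕ) : Bool :=
  lall (fun d => force (mm d cy2) fun y' => lall (fun v =>
    forceL (lmap (fun j => wact ac [Z', cf5, y'] (We j) v) (List.range 12)) fun cs =>
    force (cols 12 fun j => lget cs j) fun c0 => force (mm c0 cBi) fun c =>
      Nat.beq c cu || Nat.beq c c1 || !Nat.beq (ac c 85) 85 || !Nat.beq (mm c c) c1 ||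
        !Nat.beq (bit S5 (ac c 6)) 1) F16) P

theorem uTest_1 : pclK LD (uTest cZ) = true := by decide +kernel

theorem uTest_2 : pclK LD (uTest cZZ) = true := by decide +kernel

theorem uTest_3 : allN (fun v => !Nat.beq (ac cf5 v) v || memB v F16) 4096 = true := by
  decide +kernel

theorem cols_lget (f : ℕ → ℕ) :
    (cols 12 fun j => lget (lmap f (List.range 12)) j) = cols 12 f := by
  rw [cols_eq, cols_eq, PM.pack, PM.pack]
  refine sum_congr rfl fun j hj => ?_
  rw [mem_range] at hj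
  rw [lmap_eq, lget_eq (by simpa using hj)]
  simp

theorem det_hB : mm (cols 12 fun j => wact ac [cZ, cf5, cy2] (We j) 1283) cBi = c1 := by
  decide +kernel

theorem det_hW : ∀ j < 12, ∀ i ∈ We j, i < [cZ, cf5, cy2].length := by decide

theorem det_u {e : GL12} (hZ : e * Z0 = Z0 * e ∨ e * Z0 = Z0⁻¹ * e)
    (hf : e * elt gcode cf5 = elt gcode cf5 * e)
    {d : GL12} (hd : d ∈ D0) (hy : e * elt gcode cy2 = d * elt gcode cy2 * e) (hs : e • s0 = s0)
    (h2 : e * e = 1) (hr : ∀ v ∈ orbit Γ0 r0, e • v ∈ orbit Γ0 r0) : e = 1 ∨ gcode e = cu := by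
  have h : ∀ Z' ∈ [cZ, cZZ], uTest Z' (pcl LD) = true := by
    simp only [List.forall_mem_cons, List.not_mem_nil, IsEmpty.forall_iff, implies_true, and_true]
    exact ⟨(pclK_eq LD _).symm.trans uTest_1, (pclK_eq LD _).symm.trans uTest_2⟩
  obtain ⟨Z', hZ', e1⟩ : ∃ Z' : GL12, gcode Z' ∈ [cZ, cZZ] ∧ e * Z0 = Z' * e := by
    rcases hZ with hZ | hZ
    · exact ⟨_, by rw [code_Z0]; simp, hZ⟩
    · exact ⟨_, by rw [code_Z0_inv]; simp, hZ⟩
  have m5 := (mem_LY cf5 (by simp)).top
  have m2 := (mem_LY cy2 (by simp)).top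
  have hdet := ok12.determined (L := [cZ, cf5, cy2])
    (L' := [gcode Z', cf5, gcode (d * elt gcode cy2)]) (e := e) (W := We) (v := 1283) (Bi := cBi)
    (by
      simp only [List.forall_mem_cons, List.not_mem_nil, IsEmpty.forall_iff, implies_true, and_true]
      exact ⟨code_Z0 ▸ mem_top _, m5, m2⟩)
    (by
      simp only [List.forall_mem_cons, List.not_mem_nil, IsEmpty.forall_iff, implies_true, and_true]
      exact ⟨mem_top _, m5, mem_top _⟩) (by simp only [List.length_cons, List.length_nil])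
    (by
      intro i hi
      have : i = 0 ∨ i = 1 ∨ i = 2 := by simp at hi; omega
      rcases this with rfl | rfl | rfl
      · rw [lget_cons_zero, lget_cons_zero, C12.elt_code, ← e1, ← code_Z0, C12.elt_code]
      · rw [lget_cons_succ, lget_cons_zero, lget_cons_succ, lget_cons_zero, hf]
      · rw [lget_cons_succ, lget_cons_succ, lget_cons_zero, lget_cons_succ, lget_cons_succ,
          lget_cons_zero, C12.elt_code, hy])
    det_hW (by norm_num) (by rw [← mm_def, ← ac_def, oneC_eq]; exact det_hB)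
  have hfix : ac cf5 (vcode (e • vdec 12 1283)) = vcode (e • vdec 12 1283) := by
    have e2 : elt gcode cf5 • vdec 12 1283 = vdec 12 1283 :=
      fix_of_gen (L := [cf5]) (by simpa using m5) (by norm_num) (by decide +kernel)
        (C12.elt_mem (m5.gen List.mem_cons_self))
    rw [← m5.code_elt, ac_code, ← mul_smul, ← hf, mul_smul, e2]
  have h1 := allN_spec uTest_3 _ (vcode_lt (e • vdec 12 1283))
  rw [hfix, Nat.beq_refl, Bool.not_true, Bool.false_or, memB_iff] at h1
  have h3 := lall_iff.1 (h _ hZ') _ ((D0_spec.1 d).1 hd)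
  rw [force_eq, ← m2.code_elt, C12.map_mul] at h3
  have h4 := lall_iff.1 h3 _ h1
  have hc : mm (cols 12 fun j => wact ac [gcode Z', cf5, gcode (d * elt gcode cy2)] (We j)
      (vcode (e • vdec 12 1283))) cBi = gcode e := by rw [mm_def, ac_def]; exact hdet.symm
  have h6 : vdec 12 6 ∈ orbit Γ0 r0 := by
    rw [orbit_r0.2, vcode_vdec (by norm_num)]; decide +kernel
  have h7 := hr _ h6
  rw [orbit_r0.2, ← ac_code, vcode_vdec (by norm_num), ← bit_eq_one_iff] at h7
  rw [forceL_eq, force_eq, force_eq, cols_lget, hc, h7, ← code_s0, ac_code, hs, C12.map_mul, h2, C12.map_one] at h4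
  simp only [Nat.beq_refl, Bool.not_true, Bool.or_false, Bool.or_eq_true, Nat.beq_eq] at h4
  rcases h4 with h4 | h4
  · exact Or.inr h4
  · exact Or.inl (C12.inj (h4.trans C12.map_one.symm))

theorem exists_adjust {d : GL12} (hd : d ∈ D0) :
    ∃ d' ∈ D0, d' * (d * elt gcode cf5) = elt gcode cf5 * d' := by
  have : (pclK LD fun P => lall (fun x => force (mm x cf5) fun y => lany (fun x' =>
    Nat.beq (mm x' y) (mm cf5 x')) P) P) = true := by decide +kernel
  rw [pclK_eq, lall_iff] at this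
  have h1 := this _ ((D0_spec.1 d).1 hd)
  rw [force_eq, lany_iff] at h1
  obtain ⟨x, hx, e⟩ := h1
  obtain ⟨d', hd', rfl⟩ := mem_of_pcl (mem_gen mem_LD) x hx
  have m5 := (mem_LY cf5 (by simp)).top
  refine ⟨d', hd', C12.inj ?_⟩
  have := eq_of_beq e
  rwa [← m5.code_elt, C12.map_mul, C12.map_mul, C12.map_mul] at this

end CL.F24
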