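import Mathlib
import Cfsg.Agent.SPOR.CocodeRec
import Cfsg.Agent.SPOR.F24.Grp3

/-!
Computations in the coordinates of the elementary abelian group of order `2^11`.
-/

set_option autoImplicit false
set_option maxHeartbeats 400000

namespace CL.F24

open Finset CL.K CL.CG CL.F2M CL.CoRec Cfsg MulAction

attribute [local irreducible] gcode vcode

/-- the general linear group of `V11` -/
abbrev GL11 : Type := GL (Fin 11) (ZMod 2)

theorem ok11 : OK 11 0x4008010020040080100200400801 2047 :=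
  ⟨by norm_num, by norm_num, by decide +kernel⟩

/-- action on codes -/
noncomputable def ac11 (a v : ℕ) : ℕ := act 11 2047 a v

theorem A11 : IsAct (gcode : GL11 → ℕ) (enc 11) ac11 := ok11.isAct

attribute [irreducible] ac11

/-- the action of a basis of `Q` and of the element of order 3 -/
def LQ : List ℕ := [0x10511c1411001001001001001021001, 0x10a10e1421001001001001001001041, 0x10511c1411001001001001001021001, 0x10a10e1421001001001001001001041, 0x1155339001881001001009001001001, 0x11a93c9001901001001001011001001, 0x1155339001881001001009001001001, 0x11a93c9001901001001001011001001, 0x11552f1501a01003001001001001001, 0x11a9339601c01001005001001001001, 0x11552f1501a01003001001001001001, 0x11a9339601c01001005001001001001, 0x1001001001001001802001802001802]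
/-- the orbits of the elements centralizing the element of order 3 -/
def MA : ℕ := 0x41200108010000280008402040284100402000080011104404022280880001004020000800000e00b0d0000700000182000480402000000014100201082841800004000020111008884044220200018001040100210000042080208400842102402080480000001008010400128421800004000020000e70000b0000d00001020000804000111020228808044400010201008140010000408042000280428180402400082000000102001810044281020000804000000e0d000070b0000001000000000000111e000000000000eee1000100010001000e000e000e000e00010001000100011110111011101110000100000000000000000000000000000000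
/-- the elements over roots -/
def MD0 : ℕ := 0x824124814821111e824124814821111e
/-- the true sign function -/
def fT : ℕ := 0xe220
/-- the 24 points -/
def LP : List ℕ := [0, 1, 2, 1046, 541, 548, 1091, 275, 291, 67, 451, 1084, 1752, 307, 1781, 399, 1667, 323, 579, 570, 395, 1774, 1065, 391]
/-- even sets giving the basis -/
def LB : List ℕ := [3, 5, 1081344, 8421376, 8448, 8320, 519, 132096, 131584, 262656, 576]

/-- the type of an element outside `Q` -/
def ty (c : ℕ) : ℕ := cond (Nat.beq (bit MA c) 1) 0 (cond (Nat.beq (bit MA (Nat.xor c 64)) 1) 1 2)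

/-- representatives -/
noncomputable def rp (m t : ℕ) : ℕ := lget [128 * m, 128 * m + 64, lget R3 m] t

theorem mem_orbit_rp {K : Subgroup GL11} (hK : ∀ c ∈ LQ, Mem gcode K c) {m i : ℕ} (h0 : 0 < m)
    (hm : m < 16) (hi : i < 128) : ∃ g ∈ K,
      g • vdec 11 (rp m (ty (128 * m + i))) = vdec 11 (128 * m + i) := by
  have : allLt (fun m => Nat.beq m 0 || allLt (fun t => blt (rp m t) (2 ^ 11) &&
    orbA ac11 (2 ^ 11) LQ (rp m t) fun S _ => allLt (fun i => force (128 * m + i) fun c =>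
      !Nat.beq (ty c) t || Nat.beq (bit S c) 1) 128) 3) 16 = true := by decide +kernel
  have h1 := allLt_iff.1 this m hm
  have h3 : ty (128 * m + i) < 3 := by
    unfold ty
    generalize Nat.beq (bit MA (128 * m + i)) 1 = a, Nat.beq (bit MA (Nat.xor _ 64)) 1 = b
    revert a b; decide
  rw [Bool.or_eq_true, Nat.beq_eq, allLt_iff] at h1
  have h2 := h1.resolve_left (by omega) _ h3
  rw [Bool.and_eq_true] at h2
  obtain ⟨S, n, h4, -, h5⟩ := A11.orbA_eq ok11.isCode hK (lt_of_blt h2.1) h2.2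
  have h6 := allLt_iff.1 h4 i hi
  rw [force_eq, Nat.beq_refl, Bool.not_true, Bool.false_or, Nat.beq_eq, bit_eq_one_iff,
    ← vcode_vdec (n := 11) (c := 128 * m + i) (by omega)] at h6
  obtain ⟨⟨g, hg⟩, e⟩ := (h5 _).2 h6
  exact ⟨g, ok11.isCode.gen_le hK hg, e⟩

theorem sum_ty {m a b c : ℕ} (h0 : 0 < m) (hm : m < 16) (ha : a < 2) (hb : b < 2) (hc : c < 2) :
    ∑ i ∈ range 128, lget [a, b, c] (ty (128 * m + i)) = 16 * (a + b) + 96 * c := by
  have : allLt (fun m => Nat.beq m 0 || allLt (fun a => allLt (fun b => allLt (fun c =>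
    Nat.beq (sumLt (fun i => lget [a, b, c] (ty (128 * m + i))) 128) (16 * (a + b) + 96 * c)) 2) 2) 2)
    16 = true := by decide +kernel
  have h1 := allLt_iff.1 this m hm
  rw [Bool.or_eq_true, Nat.beq_eq, allLt_iff] at h1
  have h2 := allLt_iff.1 (allLt_iff.1 (h1.resolve_left (by omega) a ha) b hb) c hc
  rwa [Nat.beq_eq, sumLt_eq] at h2

theorem ncard_eq_sum {p : V11 → Prop} {f : ℕ → ℕ}
    (h : ∀ c < 2048, (p (vdec 11 c) → f c = 1) ∧ (¬ p (vdec 11 c) → f c = 0)) :
    {v | p v}.ncard = ∑ c ∈ range 2048, f c := by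
  classical
  rw [← coe_filter_univ, Set.ncard_coe_finset, card_filter, (enc 11).sum_eq]
  refine sum_congr rfl fun c hc => ?_
  have := h c (mem_range.1 hc)
  change (if p (vdec 11 c) then 1 else 0) = _
  split
  · rw [this.1 ‹_›]
  · rw [this.2 ‹_›]

/-- conjugation by the lift of `e` maps `c` to `c'` -/
noncomputable def qOK (e c c' : ℕ) : Bool := force (ac (abC c) e) fun ge =>
  blt c' 2048 && Nat.beq (c / 128) (c' / 128) && inW (e ^^^ ge) &&
    Nat.beq (w0c c') (w0c c ^^^ (e ^^^ ge)) &&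
    Nat.beq (bit c' 6) ((bit c 6 + bC e (w0c c) + bC ge (ac cZZ e) + qC ge) % 2)

theorem LQ_check : ∀ j < 13, lget LQ j < 2 ^ (11 * 11) ∧ ∀ i < 11,
    (j < 12 → qOK (2 ^ j) (2 ^ i) (fld 11 2047 (lget LQ j) i) = true) ∧
    (j = 12 → fld 11 2047 (lget LQ j) i < 2048 ∧ 2 ^ i / 128 = fld 11 2047 (lget LQ j) i / 128 ∧
      w0c (fld 11 2047 (lget LQ j) i) = ac cZ (w0c (2 ^ i)) ∧
      (fld 11 2047 (lget LQ j) i).testBit 6 = (2 ^ i).testBit 6) := by
  decide +kernel

theorem low_check : ∀ c < 128, (w0c c = 0 → c = 0 ∨ c = 64) ∧ MD0.testBit 0 = false ∧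
    MD0.testBit 64 = false ∧ (w0c c ≠ 0 → S85.testBit (w0c c) = !MD0.testBit c) := by
  decide +kernel

theorem sum_low : ∑ c ∈ range 128, (if c ≠ 0 ∧ MD0.testBit c = false then 1 else 0) = 91 := by
  decide +kernel

theorem exists_gm' {m : ℕ} (h1 : 0 < m) (hm : m < 16) : ∃ g ∈ N0,
    g * am ab0 (vdec 11 128) * g⁻¹ = am ab0 (vdec 11 (128 * m)) ∧ ∃ i < 64,
      g * am ab0 (vdec 11 (lget R3 1)) * g⁻¹ = am ab0 (vdec 11 (128 * m + i)) ∧
      g • wv (vdec 11 (lget R3 1)) = wv (vdec 11 (128 * m + i)) ∧ ty (128 * m + i) = 2 ∧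
      ty (128 * m + (i + 64)) = 2 ∧ (128 * m + i) ^^^ 64 = 128 * m + (i + 64) := by
  have h : ∀ c ∈ wdsG.map Prod.fst, Mem gcode N0 c :=
    C12.mem_of_wordsB (mem_gen mem_LN0) (W := wdsG) (by decide +kernel)
  have : ∀ m < 16, 0 < m → mm (lget (wdsG.map Prod.fst) m) (abC 128) =
      mm (abC (128 * m)) (lget (wdsG.map Prod.fst) m) ∧ ∃ i < 64,
      mm (lget (wdsG.map Prod.fst) m) (abC (lget R3 1)) =
        mm (abC (128 * m + i)) (lget (wdsG.map Prod.fst) m) ∧
      ac (lget (wdsG.map Prod.fst) m) (w0c (lget R3 1)) = w0c (128 * m + i) ∧ ty (128 * m + i) = 2 ∧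
      ty (128 * m + (i + 64)) = 2 ∧ (128 * m + i) ^^^ 64 = 128 * m + (i + 64) := by
    decide +kernel
  obtain ⟨h2, i, hi, h3, h4, h5⟩ := this m hm h1
  obtain ⟨g, hg, e⟩ := h _ (lget_mem (j := m) hm)
  rw [← e, ← code_am, ← code_am, C12.map_mul, C12.map_mul] at h2 h3
  refine ⟨g, hg, mul_inv_eq_iff_eq_mul.2 (C12.inj h2), i, hi, mul_inv_eq_iff_eq_mul.2 (C12.inj h3),
    vcode_injective ?_, h5⟩
  rw [← ac_code, (code_wv _).1, (code_wv _).1, vcode_vdec (by decide), vcode_vdec (by omega), e, h4]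

theorem exists_pg {j : ℕ} (hj : j < 2) : ∃ g ∈ N0, ∀ m < 16, fld 4 15 (lget PG j) m < 16 ∧
    (fld 4 15 (lget PG j) m = 0 ↔ m = 0) ∧
    g * am ab0 (vdec 11 (128 * m)) * g⁻¹ = am ab0 (vdec 11 (128 * fld 4 15 (lget PG j) m)) := by
  have : ∀ j < 2, ∀ m < 16, fld 4 15 (lget PG j) m < 16 ∧ (fld 4 15 (lget PG j) m = 0 ↔ m = 0) ∧
      mm (lget (cg5 :: LT) j) (abC (128 * m)) =
        mm (abC (128 * fld 4 15 (lget PG j) m)) (lget (cg5 :: LT) j) := by decide +kernel
  obtain ⟨g, hg, e⟩ := mem_gen mem_LN0 _ (lget_mem (j := j) (hj.trans (by decide)))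
  refine ⟨g, hg, fun m hm => ⟨(this j hj m hm).1, (this j hj m hm).2.1, ?_⟩⟩
  have h := (this j hj m hm).2.2
  rw [← e, ← code_am, ← code_am, C12.map_mul, C12.map_mul] at h
  exact mul_inv_eq_iff_eq_mul.2 (C12.inj h)

/-- the non-central elements for the sign function `f` -/
def dB (f c : ℕ) : ℕ := cond (blt c 128) (bit MD0 c) (ind (ty c) (bit f (Nat.div c 128)))

/-- the non-central lift -/
def dm (f m : ℕ) : ℕ := Nat.add (Nat.mul 128 m) (Nat.mul 64 (bit f m))

/-- the cocycle -/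
def bt (f m n k : ℕ) : ℕ := Nat.xor (Nat.xor (dm f m) (dm f n)) (dm f k)

/-- invariance of the cocycle -/
noncomputable def invB (f P : ℕ) : Bool := allLt (fun m => allLt (fun n =>
  Nat.beq (bt f (fld 4 15 P m) (fld 4 15 P n) (fld 4 15 P (Nat.xor m n))) (bt f m n (Nat.xor m n)))
  16) 16

/-- number of pairs with given product -/
noncomputable def cntD (f y : ℕ) : ℕ :=
  sumLt2 (fun c => force c fun c => Nat.mul (dB f c) (dB f (Nat.xor c y))) 32 64

theorem eq_fT {f : ℕ} (hf : f < 65536) (h0 : bit f 0 + bit f 1 + bit f 2 + bit f 4 + bit f 8 = 0)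
    (h1 : ∀ j < 2, invB f (lget PG j) = true) (h2 : cntD f 192 = cntD f 64) : f = fT := by
  have : allN (fun f => force f fun f => !Nat.beq (bit f 0 + bit f 1 + bit f 2 + bit f 4 + bit f 8) 0 ||
    !invB f (lget PG 0) || !invB f (lget PG 1) || !Nat.beq (cntD f 192) (cntD f 64) ||
      Nat.beq f fT) 65536 = true := by decide +kernel
  have h := allN_spec this f hf
  rw [force_eq, h0, h1 0 (by decide), h1 1 (by decide), h2] at h
  simpa using h

theorem bt_cases (f : ℕ) {m n : ℕ} (hm : m < 16) (hn : n < 16) :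
    bt f m n (m ^^^ n) = 0 ∨ bt f m n (m ^^^ n) = 64 := by
  have : ∀ m < 16, ∀ n < 16, ∀ a < 2, ∀ b < 2, ∀ c < 2,
      (128 * m + 64 * a) ^^^ (128 * n + 64 * b) ^^^ (128 * (m ^^^ n) + 64 * c) = 0 ∨
      (128 * m + 64 * a) ^^^ (128 * n + 64 * b) ^^^ (128 * (m ^^^ n) + 64 * c) = 64 := by
    decide +kernel
  have h : ∀ i, bit f i < 2 := fun i => by rw [bit_eq]; split <;> decide
  exact this m hm n hn _ (h _) _ (h _) _ (h _)

/-- the 24 points -/
noncomputable def pp (a : GolayPt) : V11 := vdec 11 (lget LP (Golay.E.enc a))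

theorem co_pp : Co pp := co_of_coB (by decide +kernel)

theorem surj_pp (v : V11) : ∃ s : Finset GolayPt, Even s.card ∧ ∑ a ∈ s, pp a = v :=
  surj_of_check (by decide +kernel) (b := lget LB) (by decide +kernel) v

theorem mem_Du_iff {c : ℕ} (hc : c < 2048) : vdec 11 c ∈ Du pp ↔ dB fT c = 1 := by
  have h1 : (force (orLt (fun a => orLt (fun b => cond (Nat.beq a b) 0
      (Nat.shiftLeft 1 (Nat.xor (lget LP a) (lget LP b)))) 24) 24) fun M =>
      allN (fun c => Nat.beq (bit M c) (dB fT c)) 2048) = true := by decide +kernel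
  have h2 : ∀ a < 24, lget LP a < 2 ^ 11 := by decide +kernel
  rw [force_eq] at h1
  rw [← eq_of_beq (allN_spec h1 c hc), bit_eq_one_iff, testBit_orLt]
  have h3 : ∀ a b : ℕ, (cond (Nat.beq a b) 0 (Nat.shiftLeft 1 (Nat.xor (lget LP a)
      (lget LP b)))).testBit c = true ↔ a ≠ b ∧ lget LP a ^^^ lget LP b = c := fun a b => by
    by_cases e : a = b
    · simp [e]
    · rw [Bool.eq_false_iff.2 (mt eq_of_beq e)]
      change (1 <<< _).testBit c = true ↔ _
      rw [Nat.one_shiftLeft, Nat.testBit_two_pow]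
      simp [e]
  constructor
  · rintro ⟨a, b, hab, e⟩
    refine ⟨_, Golay.E.enc_lt a, (testBit_orLt _ _ _).2 ⟨_, Golay.E.enc_lt b, (h3 _ _).2
      ⟨Golay.E.enc_injective.ne hab, ?_⟩⟩⟩
    rw [pp, pp, ← vdec_xor] at e
    exact (eq_of_vdec hc (Nat.xor_lt_two_pow (h2 _ (Golay.E.enc_lt a)) (h2 _ (Golay.E.enc_lt b))) e).symm
  · rintro ⟨a, ha, e⟩
    obtain ⟨b, hb, e⟩ := (testBit_orLt _ _ _).1 e
    obtain ⟨hab, rfl⟩ := (h3 _ _).1 e
    exact ⟨Golay.E.dec a, Golay.E.dec b, (Golay.E.dec_inj ha hb).not.2 hab, by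
      rw [pp, pp, Golay.E.enc_dec a ha, Golay.E.enc_dec b hb, vdec_xor]⟩

theorem dvd_cases {k l : ℕ} (hk : k ≤ 2) (hl : l < 2)
    (h : 91 + 15 * (16 * k + 96 * l) ∣ Nat.card GL11) : k = 1 ∧ l = 1 := by
  rw [Matrix.card_GL_field, ZMod.card] at h
  exact (by decide +kernel : ∀ k < 3, ∀ l < 2, 91 + 15 * (16 * k + 96 * l) ∣
    ∏ i : Fin 11, (2 ^ 11 - 2 ^ (i : ℕ)) → k = 1 ∧ l = 1) k (by omega) l hl h

end CL.F24
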